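import Mathlib.AlgebraicTopology.SimplicialObject.Basic
import Mathlib.AlgebraicTopology.SimplexCategory.Truncated
import Mathlib.CategoryTheory.Functor.KanExtension.Pointwise

/-!
One step of the coskeleton of a truncated simplicial object from a matching object.
-/

set_option autoImplicit false
set_option backward.isDefEq.respectTransparency false
set_option backward.isDefEq.respectTransparency.types false

universe v u

open CategoryTheory CategoryTheory.Limits Opposite Simplicial

namespace Groth.Agent.CoskStep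

open SimplexCategory.Truncated

variable {C : Type u} [Category.{v} C] {n : ℕ}

/-- the top object of the `m`-truncated category -/
abbrev top (m : ℕ) : SimplexCategory.Truncated m := ⟨⦋m⦌, (SimplexCategory.len_mk m).le⟩

abbrev mid (n : ℕ) : SimplexCategory.Truncated (n + 1) := ⟨⦋n⦌, (SimplexCategory.len_mk n).trans_le (Nat.le_succ n)⟩

abbrev incl' (n : ℕ) : (SimplexCategory.Truncated (n + 1))ᵒᵖ ⥤ (SimplexCategory.Truncated (n + 2))ᵒᵖ :=
  (SimplexCategory.Truncated.incl (n + 1) (n + 2) (Nat.le_succ _)).op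

abbrev dd (i : Fin (n + 2)) : mid n ⟶ top (n + 1) := Hom.tr (SimplexCategory.δ i)

lemma exists_factor {Δ : SimplexCategory.Truncated (n + 1)} (g : Δ.obj ⟶ ⦋n + 2⦌) :
    ∃ (j : Fin (n + 3)) (g' : Δ ⟶ top (n + 1)), g'.hom ≫ SimplexCategory.δ j = g := by
  obtain ⟨j, θ, h⟩ := SimplexCategory.eq_comp_δ_of_not_surjective g (fun hs => by
    have h1 := Fintype.card_le_of_surjective _ hs
    have h2 := Δ.property
    simp only [Fintype.card_fin, SimplexCategory.len_mk] at h1
    omega)
  exact ⟨j, ObjectProperty.homMk θ, h.symm⟩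

variable (U : (SimplexCategory.Truncated (n + 1))ᵒᵖ ⥤ C)

/-- the relations satisfied by a family on the faces -/
def Rel {S : C} (g : Fin (n + 3) → (S ⟶ U.obj (op (top (n + 1))))) : Prop :=
  ∀ i j : Fin (n + 2), i ≤ j → g (Fin.castSucc i) ≫ U.map (dd j).op = g j.succ ≫ U.map (dd i).op

variable {U} {S : C} {g : Fin (n + 3) → (S ⟶ U.obj (op (top (n + 1))))} (hg : Rel U g)

include hg in
lemma well_defined_le {Δ : SimplexCategory.Truncated (n + 1)} {j j' : Fin (n + 3)} (hjj : j < j')
    (a b : Δ ⟶ top (n + 1)) (h : a.hom ≫ SimplexCategory.δ j = b.hom ≫ SimplexCategory.δ j') :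
    g j ≫ U.map a.op = g j' ≫ U.map b.op := by
  have hj' : j' ≠ 0 := Fin.pos_iff_ne_zero.1 (lt_of_le_of_lt (Fin.zero_le _) hjj)
  obtain ⟨p, rfl⟩ := Fin.exists_succ_eq.2 hj'
  have hjlast : j ≠ Fin.last _ := ne_of_lt (lt_of_lt_of_le hjj (Fin.le_last _))
  obtain ⟨i, rfl⟩ := Fin.exists_castSucc_eq.2 hjlast
  have hip : i ≤ p := Fin.castSucc_lt_succ_iff.1 hjj
  have hmiss : ∀ x, a.hom.toOrderHom x ≠ p := by
    intro x hx
    have h1 : i.castSucc.succAbove (a.hom.toOrderHom x) = p.succ.succAbove (b.hom.toOrderHom x) :=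
      congrArg (fun f : Δ.obj ⟶ ⦋n + 2⦌ => f.toOrderHom x) h
    rw [hx, Fin.succAbove_castSucc_of_le _ _ hip] at h1
    exact Fin.succAbove_ne _ _ h1.symm
  obtain ⟨θ, hθ⟩ := SimplexCategory.eq_comp_δ_of_not_surjective' a.hom p hmiss
  have hb : b.hom = θ ≫ SimplexCategory.δ i := by
    rw [← cancel_mono (SimplexCategory.δ p.succ), ← h, hθ, Category.assoc, Category.assoc,
      SimplexCategory.δ_comp_δ hip]
  let θ' : Δ ⟶ mid n := ObjectProperty.homMk θ
  have ea : a = θ' ≫ dd p := ObjectProperty.hom_ext _ hθ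
  have eb : b = θ' ≫ dd i := ObjectProperty.hom_ext _ hb
  rw [ea, eb, op_comp, op_comp, U.map_comp, U.map_comp, ← Category.assoc, ← Category.assoc, hg i p hip]

include hg in
lemma well_defined {Δ : SimplexCategory.Truncated (n + 1)} {j j' : Fin (n + 3)}
    (a b : Δ ⟶ top (n + 1)) (h : a.hom ≫ SimplexCategory.δ j = b.hom ≫ SimplexCategory.δ j') :
    g j ≫ U.map a.op = g j' ≫ U.map b.op := by
  rcases lt_trichotomy j j' with hlt | rfl | hlt
  · exact well_defined_le hg hlt a b h
  · rw [show a = b from ObjectProperty.hom_ext _ ((cancel_mono (SimplexCategory.δ j)).1 h)]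
  · exact (well_defined_le hg hlt b a h.symm).symm

/-- the value on an arrow -/
noncomputable def leg (g : Fin (n + 3) → (S ⟶ U.obj (op (top (n + 1))))) {Δ : SimplexCategory.Truncated (n + 1)}
    (f : Δ.obj ⟶ ⦋n + 2⦌) : S ⟶ U.obj (op Δ) :=
  g (exists_factor f).choose ≫ U.map (exists_factor f).choose_spec.choose.op

include hg in
lemma leg_eq {Δ : SimplexCategory.Truncated (n + 1)} (f : Δ.obj ⟶ ⦋n + 2⦌) (j : Fin (n + 3))
    (a : Δ ⟶ top (n + 1)) (h : a.hom ≫ SimplexCategory.δ j = f) : leg g f = g j ≫ U.map a.op :=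
  well_defined hg _ a ((exists_factor f).choose_spec.choose_spec.trans h.symm)

include hg in
lemma leg_comp {Δ Δ' : SimplexCategory.Truncated (n + 1)} (e : Δ' ⟶ Δ) (f : Δ.obj ⟶ ⦋n + 2⦌) :
    leg g f ≫ U.map e.op = leg g (e.hom ≫ f) := by
  obtain ⟨j, a, ha⟩ := exists_factor f
  rw [leg_eq hg f j a ha, Category.assoc, ← U.map_comp, ← op_comp]
  refine (leg_eq hg _ j (e ≫ a) ?_).symm
  rw [← ha]
  exact Category.assoc _ _ _

variable (U)

/-- the cone attached to a family on the faces -/
noncomputable def mkCone (hg : Rel U g) :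
    Cone (StructuredArrow.proj (op (top (n + 2))) (incl' n) ⋙ U) where
  pt := S
  π :=
    { app := fun f => leg g (Δ := f.right.unop) f.hom.unop.hom
      naturality := fun f f' e => by
        refine (Category.id_comp _).trans ((leg_comp hg e.right.unop f.hom.unop.hom).trans ?_).symm
        congr 1
        exact congrArg (fun k => k.unop.hom) (StructuredArrow.w e) }

/-- the arrow of a face -/
abbrev face (k : Fin (n + 3)) : StructuredArrow (op (top (n + 2))) (incl' n) :=
  StructuredArrow.mk (Y := op (top (n + 1)))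
    (Hom.tr (n := n + 2) (ha := (SimplexCategory.len_mk (n + 1)).trans_le (Nat.le_succ (n + 1)))
      (hb := (SimplexCategory.len_mk (n + 2)).le) (SimplexCategory.δ k)).op

/-- the faces of a cone -/
abbrev faces (s : Cone (StructuredArrow.proj (op (top (n + 2))) (incl' n) ⋙ U)) (k : Fin (n + 3)) :
    s.pt ⟶ U.obj (op (top (n + 1))) :=
  s.π.app (face k)

lemma rel_faces (s : Cone (StructuredArrow.proj (op (top (n + 2))) (incl' n) ⋙ U)) : Rel U (faces U s) := by
  intro i j hij
  let h0 : StructuredArrow (op (top (n + 2))) (incl' n) :=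
    StructuredArrow.mk (Y := op (mid n))
      (Hom.tr (n := n + 2) (ha := (SimplexCategory.len_mk n).trans_le ((Nat.le_succ n).trans (Nat.le_succ _)))
        (hb := (SimplexCategory.len_mk (n + 2)).le) (SimplexCategory.δ i ≫ SimplexCategory.δ j.succ)).op
  let e1 : face i.castSucc ⟶ h0 := StructuredArrow.homMk (dd j).op (by
    apply Quiver.Hom.unop_inj
    exact ObjectProperty.hom_ext _ (SimplexCategory.δ_comp_δ hij).symm)
  let e2 : face j.succ ⟶ h0 := StructuredArrow.homMk (dd i).op (by
    apply Quiver.Hom.unop_inj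
    exact ObjectProperty.hom_ext _ rfl)
  exact (s.w e1).trans (s.w e2).symm

lemma app_eq_leg (s : Cone (StructuredArrow.proj (op (top (n + 2))) (incl' n) ⋙ U))
    (f : StructuredArrow (op (top (n + 2))) (incl' n)) :
    s.π.app f = leg (faces U s) (Δ := f.right.unop) f.hom.unop.hom := by
  obtain ⟨j, a, ha⟩ := exists_factor (Δ := f.right.unop) f.hom.unop.hom
  rw [leg_eq (rel_faces U s) _ j a ha]
  let e : face j ⟶ f := StructuredArrow.homMk a.op (by
    apply Quiver.Hom.unop_inj
    exact ObjectProperty.hom_ext _ ha)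
  exact (s.w e).symm

variable (T : C) (π : Fin (n + 3) → (T ⟶ U.obj (op (top (n + 1))))) (hπ : Rel U π)
  (huniv : ∀ (S : C) (g : Fin (n + 3) → (S ⟶ U.obj (op (top (n + 1))))), Rel U g → ∃! t : S ⟶ T, ∀ k, t ≫ π k = g k)

lemma mkCone_faces {S : C} {g : Fin (n + 3) → (S ⟶ U.obj (op (top (n + 1))))} (hg : Rel U g) (k : Fin (n + 3)) :
    (mkCone U hg).π.app (face k) = g k := by
  change leg g (SimplexCategory.δ k) = g k
  rw [leg_eq hg (SimplexCategory.δ k) k (𝟙 _) (Category.id_comp _), op_id, U.map_id, Category.comp_id]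

include huniv in
/-- the matching object is the limit -/
noncomputable def isLimitMkCone : IsLimit (mkCone U hπ) where
  lift s := (huniv s.pt (faces U s) (rel_faces U s)).choose
  fac s f := by
    rw [app_eq_leg U s f]
    obtain ⟨j, a, ha⟩ := exists_factor (Δ := f.right.unop) f.hom.unop.hom
    rw [leg_eq (rel_faces U s) _ j a ha]
    refine Eq.trans ?_ (congrArg (· ≫ U.map a.op) ((huniv s.pt (faces U s) (rel_faces U s)).choose_spec.1 j))
    rw [Category.assoc]
    exact congrArg (_ ≫ ·) (leg_eq hπ _ j a ha)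
  uniq s m hm := by
    refine (huniv s.pt (faces U s) (rel_faces U s)).choose_spec.2 m fun k => ?_
    rw [← mkCone_faces U hπ k]
    exact hm _

include T π hπ huniv in
theorem main : (incl' n).HasPointwiseRightKanExtension U ∧
    ∀ (V : (SimplexCategory.Truncated (n + 2))ᵒᵖ ⥤ C) (α : incl' n ⋙ V ⟶ U) [V.IsRightKanExtension α]
      (t : V.obj (op (top (n + 2))) ⟶ T),
      (∀ k : Fin (n + 3), t ≫ π k = V.map (face k).hom ≫ α.app (op (top (n + 1)))) → IsIso t := by
  have hex : (incl' n).HasPointwiseRightKanExtension U := by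
    intro Y
    obtain ⟨⟨Δ, hΔ⟩⟩ := Y
    by_cases h : Δ.len ≤ n + 1
    · haveI : (SimplexCategory.Truncated.incl (n + 1) (n + 2) (Nat.le_succ _)).Full :=
        ObjectProperty.full_ιOfLE _
      haveI : (SimplexCategory.Truncated.incl (n + 1) (n + 2) (Nat.le_succ _)).Faithful :=
        ObjectProperty.faithful_ιOfLE _
      haveI : HasInitial (StructuredArrow ((incl' n).obj (op ⟨Δ, h⟩)) (incl' n)) :=
        (StructuredArrow.mkIdInitial (T := incl' n) (Y := op ⟨Δ, h⟩)).hasInitial
      exact (inferInstanceAs (HasLimit (StructuredArrow.proj ((incl' n).obj (op ⟨Δ, h⟩)) (incl' n) ⋙ U)))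
    · obtain rfl : Δ = ⦋n + 2⦌ := SimplexCategory.ext (by
        have : Δ.len ≤ n + 2 := hΔ
        change Δ.len = n + 2
        omega)
      exact HasLimit.mk ⟨_, isLimitMkCone U T π hπ huniv⟩
  refine ⟨hex, fun V α _ t ht => ?_⟩
  haveI := hex
  have hV := Functor.isPointwiseRightKanExtensionOfIsRightKanExtension V α (op (top (n + 2)))
  have hT := isLimitMkCone U T π hπ huniv
  have : t = (hV.conePointUniqueUpToIso hT).hom := by
    refine hT.hom_ext fun f => ?_
    rw [IsLimit.conePointUniqueUpToIso_hom_comp,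
      app_eq_leg U ((Functor.RightExtension.mk V α).coneAt (op (top (n + 2)))) f]
    obtain ⟨j, a, ha⟩ := exists_factor (Δ := f.right.unop) f.hom.unop.hom
    rw [leg_eq (rel_faces U _) _ j a ha]
    refine Eq.trans ?_ (congrArg (· ≫ U.map a.op) (ht j))
    rw [Category.assoc]
    exact congrArg (t ≫ ·) (leg_eq hπ _ j a ha)
  rw [this]
  infer_instance

end Groth.Agent.CoskStep
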